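import Cfsg.Agent.Lib.H17.Fi22M78.Data
import Cfsg.Agent.Lib.H17.Fi22Glue

set_option autoImplicit false
set_option maxRecDepth 100000

/-! # The nine matrices of degree 78 satisfy the relations of Fi22: the relator words number 20 to 35 and 39 to 48 (generated) -/

namespace Cfsg.Agent.Lib.H17.Fi22M78

open Cfsg.Agent.Lib.H17.PackMat Cfsg.Agent.Lib.H17.Fi22Glue

theorem chk20 : checkW 13 78 Ms (relW.getD 20 []) = true := by decide +kernel

theorem chk21 : checkW 13 78 Ms (relW.getD 21 []) = true := by decide +kernel

theorem chk22 : checkW 13 78 Ms (relW.getD 22 []) = true := by decide +kernel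

theorem chk23 : checkW 13 78 Ms (relW.getD 23 []) = true := by decide +kernel

theorem chk24 : checkW 13 78 Ms (relW.getD 24 []) = true := by decide +kernel

theorem chk25 : checkW 13 78 Ms (relW.getD 25 []) = true := by decide +kernel

theorem chk26 : checkW 13 78 Ms (relW.getD 26 []) = true := by decide +kernel

theorem chk27 : checkW 13 78 Ms (relW.getD 27 []) = true := by decide +kernel

theorem chk28 : checkW 13 78 Ms (relW.getD 28 []) = true := by decide +kernel

theorem chk29 : checkW 13 78 Ms (relW.getD 29 []) = true := by decide +kernel

theorem chk30 : checkW 13 78 Ms (relW.getD 30 []) = true := by decide +kernel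

theorem chk31 : checkW 13 78 Ms (relW.getD 31 []) = true := by decide +kernel

theorem chk32 : checkW 13 78 Ms (relW.getD 32 []) = true := by decide +kernel

theorem chk33 : checkW 13 78 Ms (relW.getD 33 []) = true := by decide +kernel

theorem chk34 : checkW 13 78 Ms (relW.getD 34 []) = true := by decide +kernel

theorem chk35 : checkW 13 78 Ms (relW.getD 35 []) = true := by decide +kernel

theorem chkB : ∀ t, 20 ≤ t → t < 36 → checkW 13 78 Ms (relW.getD t []) = true := by
  intro t h1 h2
  interval_cases t
  · exact chk20
  · exact chk21
  · exact chk22
  · exact chk23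
  · exact chk24
  · exact chk25
  · exact chk26
  · exact chk27
  · exact chk28
  · exact chk29
  · exact chk30
  · exact chk31
  · exact chk32
  · exact chk33
  · exact chk34
  · exact chk35

theorem chk39 : checkW 13 78 Ms (relW.getD 39 []) = true := by decide +kernel

theorem chk40 : checkW 13 78 Ms (relW.getD 40 []) = true := by decide +kernel

theorem chk41 : checkW 13 78 Ms (relW.getD 41 []) = true := by decide +kernel

theorem chk42 : checkW 13 78 Ms (relW.getD 42 []) = true := by decide +kernel

theorem chk43 : checkW 13 78 Ms (relW.getD 43 []) = true := by decide +kernel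

theorem chk44 : checkW 13 78 Ms (relW.getD 44 []) = true := by decide +kernel

theorem chk45 : checkW 13 78 Ms (relW.getD 45 []) = true := by decide +kernel

theorem chk46 : checkW 13 78 Ms (relW.getD 46 []) = true := by decide +kernel

theorem chk47 : checkW 13 78 Ms (relW.getD 47 []) = true := by decide +kernel

theorem chk48 : checkW 13 78 Ms (relW.getD 48 []) = true := by decide +kernel

theorem chkB' : ∀ t, 39 ≤ t → t < 49 → checkW 13 78 Ms (relW.getD t []) = true := by
  intro t h1 h2
  interval_cases t
  · exact chk39
  · exact chk40
  · exact chk41
  · exact chk42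
  · exact chk43
  · exact chk44
  · exact chk45
  · exact chk46
  · exact chk47
  · exact chk48

end Cfsg.Agent.Lib.H17.Fi22M78
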