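import Cfsg.Agent.Lib.H17.Fi22M78.Data
import Cfsg.Agent.Lib.H17.Fi22Glue

set_option autoImplicit false
set_option maxRecDepth 100000

/-! # The nine matrices of degree 78 satisfy the relations of Fi22: the relator word number 37 (generated) -/

namespace Cfsg.Agent.Lib.H17.Fi22M78

open Cfsg.Agent.Lib.H17.PackMat Cfsg.Agent.Lib.H17.Fi22Glue

theorem chkD0 : checkWB 13 78 Ms (relW.getD 37 []) 0 6 = true := by decide +kernel

theorem chkD1 : checkWB 13 78 Ms (relW.getD 37 []) 6 6 = true := by decide +kernel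

theorem chkD2 : checkWB 13 78 Ms (relW.getD 37 []) 12 6 = true := by decide +kernel

theorem chkD3 : checkWB 13 78 Ms (relW.getD 37 []) 18 6 = true := by decide +kernel

theorem chkD4 : checkWB 13 78 Ms (relW.getD 37 []) 24 6 = true := by decide +kernel

theorem chkD5 : checkWB 13 78 Ms (relW.getD 37 []) 30 6 = true := by decide +kernel

theorem chkD6 : checkWB 13 78 Ms (relW.getD 37 []) 36 6 = true := by decide +kernel

theorem chkD7 : checkWB 13 78 Ms (relW.getD 37 []) 42 6 = true := by decide +kernel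

theorem chkD8 : checkWB 13 78 Ms (relW.getD 37 []) 48 6 = true := by decide +kernel

theorem chkD9 : checkWB 13 78 Ms (relW.getD 37 []) 54 6 = true := by decide +kernel

theorem chkD10 : checkWB 13 78 Ms (relW.getD 37 []) 60 6 = true := by decide +kernel

theorem chkD11 : checkWB 13 78 Ms (relW.getD 37 []) 66 6 = true := by decide +kernel

theorem chkD12 : checkWB 13 78 Ms (relW.getD 37 []) 72 6 = true := by decide +kernel

theorem chkD : ∀ i < 78, evalRow 13 78 Ms (relW.getD 37 []) (basisVec 78 i) = basisVec 78 i := by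
  intro i hi
  obtain ⟨b, hb, h1, h2⟩ : ∃ b < 13, 6 * b ≤ i ∧ i < 6 * b + 6 := ⟨i / 6, by omega, by omega, by omega⟩
  interval_cases b
  · exact fixes_of_checkWB 13 78 Ms _ _ 6 chkD0 i h1 h2
  · exact fixes_of_checkWB 13 78 Ms _ _ 6 chkD1 i h1 h2
  · exact fixes_of_checkWB 13 78 Ms _ _ 6 chkD2 i h1 h2
  · exact fixes_of_checkWB 13 78 Ms _ _ 6 chkD3 i h1 h2
  · exact fixes_of_checkWB 13 78 Ms _ _ 6 chkD4 i h1 h2
  · exact fixes_of_checkWB 13 78 Ms _ _ 6 chkD5 i h1 h2
  · exact fixes_of_checkWB 13 78 Ms _ _ 6 chkD6 i h1 h2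
  · exact fixes_of_checkWB 13 78 Ms _ _ 6 chkD7 i h1 h2
  · exact fixes_of_checkWB 13 78 Ms _ _ 6 chkD8 i h1 h2
  · exact fixes_of_checkWB 13 78 Ms _ _ 6 chkD9 i h1 h2
  · exact fixes_of_checkWB 13 78 Ms _ _ 6 chkD10 i h1 h2
  · exact fixes_of_checkWB 13 78 Ms _ _ 6 chkD11 i h1 h2
  · exact fixes_of_checkWB 13 78 Ms _ _ 6 chkD12 i h1 h2

end Cfsg.Agent.Lib.H17.Fi22M78
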