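import Cfsg.Agent.Lib.H17.Fi22M78.Data
import Cfsg.Agent.Lib.H17.Fi22Glue

set_option autoImplicit false
set_option maxRecDepth 100000

/-! # The nine matrices of degree 78 satisfy the relations of Fi22: the relator word number 38 (generated) -/

namespace Cfsg.Agent.Lib.H17.Fi22M78

open Cfsg.Agent.Lib.H17.PackMat Cfsg.Agent.Lib.H17.Fi22Glue

theorem chkE0 : checkWB 13 78 Ms (relW.getD 38 []) 0 6 = true := by decide +kernel

theorem chkE1 : checkWB 13 78 Ms (relW.getD 38 []) 6 6 = true := by decide +kernel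

theorem chkE2 : checkWB 13 78 Ms (relW.getD 38 []) 12 6 = true := by decide +kernel

theorem chkE3 : checkWB 13 78 Ms (relW.getD 38 []) 18 6 = true := by decide +kernel

theorem chkE4 : checkWB 13 78 Ms (relW.getD 38 []) 24 6 = true := by decide +kernel

theorem chkE5 : checkWB 13 78 Ms (relW.getD 38 []) 30 6 = true := by decide +kernel

theorem chkE6 : checkWB 13 78 Ms (relW.getD 38 []) 36 6 = true := by decide +kernel

theorem chkE7 : checkWB 13 78 Ms (relW.getD 38 []) 42 6 = true := by decide +kernel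

theorem chkE8 : checkWB 13 78 Ms (relW.getD 38 []) 48 6 = true := by decide +kernel

theorem chkE9 : checkWB 13 78 Ms (relW.getD 38 []) 54 6 = true := by decide +kernel

theorem chkE10 : checkWB 13 78 Ms (relW.getD 38 []) 60 6 = true := by decide +kernel

theorem chkE11 : checkWB 13 78 Ms (relW.getD 38 []) 66 6 = true := by decide +kernel

theorem chkE12 : checkWB 13 78 Ms (relW.getD 38 []) 72 6 = true := by decide +kernel

theorem chkE : ∀ i < 78, evalRow 13 78 Ms (relW.getD 38 []) (basisVec 78 i) = basisVec 78 i := by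
  intro i hi
  obtain ⟨b, hb, h1, h2⟩ : ∃ b < 13, 6 * b ≤ i ∧ i < 6 * b + 6 := ⟨i / 6, by omega, by omega, by omega⟩
  interval_cases b
  · exact fixes_of_checkWB 13 78 Ms _ _ 6 chkE0 i h1 h2
  · exact fixes_of_checkWB 13 78 Ms _ _ 6 chkE1 i h1 h2
  · exact fixes_of_checkWB 13 78 Ms _ _ 6 chkE2 i h1 h2
  · exact fixes_of_checkWB 13 78 Ms _ _ 6 chkE3 i h1 h2
  · exact fixes_of_checkWB 13 78 Ms _ _ 6 chkE4 i h1 h2
  · exact fixes_of_checkWB 13 78 Ms _ _ 6 chkE5 i h1 h2
  · exact fixes_of_checkWB 13 78 Ms _ _ 6 chkE6 i h1 h2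
  · exact fixes_of_checkWB 13 78 Ms _ _ 6 chkE7 i h1 h2
  · exact fixes_of_checkWB 13 78 Ms _ _ 6 chkE8 i h1 h2
  · exact fixes_of_checkWB 13 78 Ms _ _ 6 chkE9 i h1 h2
  · exact fixes_of_checkWB 13 78 Ms _ _ 6 chkE10 i h1 h2
  · exact fixes_of_checkWB 13 78 Ms _ _ 6 chkE11 i h1 h2
  · exact fixes_of_checkWB 13 78 Ms _ _ 6 chkE12 i h1 h2

end Cfsg.Agent.Lib.H17.Fi22M78
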