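import Cfsg.Agent.Lib.H17.Fi22M78.RelA
import Cfsg.Agent.Lib.H17.Fi22M78.RelB
import Cfsg.Agent.Lib.H17.Fi22M78.RelC
import Cfsg.Agent.Lib.H17.Fi22M78.RelD
import Cfsg.Agent.Lib.H17.Fi22M78.RelE
import Cfsg.Agent.Lib.H17.Fi22Ord.Simple

set_option autoImplicit false
set_option maxRecDepth 100000

/-! # A faithful representation of Fi22 of degree 78 over the field of 13 elements -/

namespace Cfsg.Agent.Lib.H17.Fi22M78

open Cfsg.Spor Cfsg.Agent.Lib.H17.PackMat Cfsg.Agent.Lib.H17.CoxGlue Cfsg.Agent.Lib.H17.Fi22Glue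
  Cfsg.Agent.Lib.H17.Fi22U62

/-- the matrices of degree 78 -/
abbrev Mat : Type := Matrix (Fin 78) (Fin 78) (ZMod 13)

/-- the matrix number `x` -/
def mat (x : ℕ) : Mat := toMat 13 78 (Ms x)

theorem fixes : ∀ w ∈ relW, ∀ i < 78, evalRow 13 78 Ms w (basisVec 78 i) = basisVec 78 i := by
  intro w hw
  obtain ⟨t, ht, rfl⟩ := List.getElem_of_mem hw
  rw [relW_length] at ht
  rw [← List.getD_eq_getElem relW [] (by rw [relW_length]; exact ht)]
  have hsh : ∀ t, checkW 13 78 Ms (relW.getD t []) = true →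
      ∀ i < 78, evalRow 13 78 Ms (relW.getD t []) (basisVec 78 i) = basisVec 78 i :=
    fun t h i hi => fixes_of_checkWB 13 78 Ms _ 0 78 h i (Nat.zero_le _) (by omega)
  by_cases h1 : t < 20
  · exact hsh t (chkA t (Nat.zero_le _) h1)
  by_cases h2 : t < 36
  · exact hsh t (chkB t (by omega) h2)
  by_cases h3 : t = 36
  · subst h3
    exact chkC
  by_cases h4 : t = 37
  · subst h4
    exact chkD
  by_cases h5 : t = 38
  · subst h5
    exact chkE
  exact hsh t (chkB' t (by omega) ht)

theorem prod_words : ∀ w ∈ relW, (w.map mat).prod = 1 := fun w hw =>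
  prod_eq_one_of_fixes 13 78 (by decide) (by decide) Ms okMs w (fixes w hw)

theorem mat_mul_self (x : ℕ) (hx : x < 9) : mat x * mat x = 1 := by
  have h : [x, x] ∈ relW := by
    interval_cases x <;> decide
  simpa using prod_words [x, x] h

theorem mat_idx_gen (x : ℕ) : mat (idx (gen x)) = mat x := by
  match x with
  | 0 | 1 | 2 | 3 | 4 | 5 | 6 | 7 | 8 => rfl
  | _ + 9 => rfl

/-- the images of the generators -/
def fU (u : Gen) : Matˣ :=
  ⟨mat (idx u), mat (idx u), mat_mul_self _ (idx_lt u), mat_mul_self _ (idx_lt u)⟩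

theorem fU_mul_self (u : Gen) : fU u * fU u = 1 := Units.ext (mat_mul_self _ (idx_lt u))

theorem fU_words : ∀ w ∈ relW, ((w.map gen).map fU).prod = 1 := by
  intro w hw
  apply Units.ext
  rw [Units.val_one, ← prod_words w hw]
  have h := map_list_prod (Units.coeHom Mat) ((w.map gen).map fU)
  rw [Units.coeHom_apply] at h
  rw [h, List.map_map, List.map_map]
  apply congrArg
  apply List.map_congr_left
  intro x _
  simp only [Function.comp_apply, Units.coeHom_apply, fU]
  exact mat_idx_gen x

/-- the representation -/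
noncomputable def rep : G →* Matˣ :=
  PresentedGroup.toGroup (f := fU) (lift_rels fU fU_mul_self fU_words)

theorem rep_of (u : Gen) : rep (PresentedGroup.of u) = fU u := PresentedGroup.toGroup.of _

theorem mat_zero_ne : mat 0 ≠ 1 := by
  intro h
  have h1 := congrFun (congrFun h 0) 1
  rw [Matrix.one_apply_ne (by decide)] at h1
  simp only [mat, toMat] at h1
  rw [ZMod.natCast_eq_zero_iff] at h1
  revert h1
  decide +kernel

theorem rep_injective : Function.Injective rep := by
  have hs : IsSimpleGroup G := Cfsg.Agent.Lib.H17.Fi22Simple.simple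
  rcases hs.eq_bot_or_eq_top_of_normal rep.ker inferInstance with h | h
  · exact (MonoidHom.ker_eq_bot_iff rep).mp h
  · exfalso
    have h1 : (PresentedGroup.of Cfsg.Spor.Fi22.Gen.a : G) ∈ rep.ker := by
      rw [h]
      exact Subgroup.mem_top _
    rw [MonoidHom.mem_ker, rep_of] at h1
    exact mat_zero_ne (congrArg Units.val h1)

end Cfsg.Agent.Lib.H17.Fi22M78
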