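import Cfsg.Agent.Lib.H17.Fi22M78.Data
import Cfsg.Agent.Lib.H17.Fi22Glue

set_option autoImplicit false
set_option maxRecDepth 100000

/-! # The nine matrices of degree 78 satisfy the relations of Fi22: the relator words number 0 to 19 (generated) -/

namespace Cfsg.Agent.Lib.H17.Fi22M78

open Cfsg.Agent.Lib.H17.PackMat Cfsg.Agent.Lib.H17.Fi22Glue

theorem chk0 : checkW 13 78 Ms (relW.getD 0 []) = true := by decide +kernel

theorem chk1 : checkW 13 78 Ms (relW.getD 1 []) = true := by decide +kernel

theorem chk2 : checkW 13 78 Ms (relW.getD 2 []) = true := by decide +kernel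

theorem chk3 : checkW 13 78 Ms (relW.getD 3 []) = true := by decide +kernel

theorem chk4 : checkW 13 78 Ms (relW.getD 4 []) = true := by decide +kernel

theorem chk5 : checkW 13 78 Ms (relW.getD 5 []) = true := by decide +kernel

theorem chk6 : checkW 13 78 Ms (relW.getD 6 []) = true := by decide +kernel

theorem chk7 : checkW 13 78 Ms (relW.getD 7 []) = true := by decide +kernel

theorem chk8 : checkW 13 78 Ms (relW.getD 8 []) = true := by decide +kernel

theorem chk9 : checkW 13 78 Ms (relW.getD 9 []) = true := by decide +kernel

theorem chk10 : checkW 13 78 Ms (relW.getD 10 []) = true := by decide +kernel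

theorem chk11 : checkW 13 78 Ms (relW.getD 11 []) = true := by decide +kernel

theorem chk12 : checkW 13 78 Ms (relW.getD 12 []) = true := by decide +kernel

theorem chk13 : checkW 13 78 Ms (relW.getD 13 []) = true := by decide +kernel

theorem chk14 : checkW 13 78 Ms (relW.getD 14 []) = true := by decide +kernel

theorem chk15 : checkW 13 78 Ms (relW.getD 15 []) = true := by decide +kernel

theorem chk16 : checkW 13 78 Ms (relW.getD 16 []) = true := by decide +kernel

theorem chk17 : checkW 13 78 Ms (relW.getD 17 []) = true := by decide +kernel

theorem chk18 : checkW 13 78 Ms (relW.getD 18 []) = true := by decide +kernel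

theorem chk19 : checkW 13 78 Ms (relW.getD 19 []) = true := by decide +kernel

theorem chkA : ∀ t, 0 ≤ t → t < 20 → checkW 13 78 Ms (relW.getD t []) = true := by
  intro t h1 h2
  interval_cases t
  · exact chk0
  · exact chk1
  · exact chk2
  · exact chk3
  · exact chk4
  · exact chk5
  · exact chk6
  · exact chk7
  · exact chk8
  · exact chk9
  · exact chk10
  · exact chk11
  · exact chk12
  · exact chk13
  · exact chk14
  · exact chk15
  · exact chk16
  · exact chk17
  · exact chk18
  · exact chk19

end Cfsg.Agent.Lib.H17.Fi22M78
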